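import Groth.Agent.Misc7.DepthTwoExtend
import Groth.Agent.PicAux.Hartogs
import Groth.Agent.Pi1FEt.PushBij

/-!
# Finite étale covers and depth at least two
-/

universe u

set_option autoImplicit false
set_option backward.isDefEq.respectTransparency false

open CategoryTheory CategoryTheory.Limits AlgebraicGeometry TopologicalSpace

namespace Groth.Pi1Depth

open Groth.Pi1FEt

/-- `O_Y → f_* O_X` is bijective as soon as it is on affine opens. -/
theorem bijective_app_of_affine {X Y : Scheme.{u}} (f : X ⟶ Y)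
    (h : ∀ U : Y.Opens, IsAffineOpen U → Function.Bijective (f.app U)) :
    ∀ U : Y.Opens, Function.Bijective (f.app U) := by
  have hnat : ∀ {U W : Y.Opens} (hW : W ≤ U) (s : Γ(Y, U)),
      f.app W (res' hW s) = res' ((Opens.map f.base).map (homOfLE hW)).le (f.app U s) := fun {U W} hW s =>
    congrArg (fun φ => φ.hom s) (f.naturality (homOfLE hW).op)
  have hcov : ∀ U : Y.Opens, U ≤ ⨆ W : {W : Y.Opens // IsAffineOpen W ∧ W ≤ U}, W.1 := fun U x hx => by
    obtain ⟨_, ⟨W, hW, rfl⟩, hxW, hWU⟩ := Y.isBasis_affineOpens.exists_subset_of_mem_open hx U.2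
    exact Opens.mem_iSup.2 ⟨⟨W, hW, hWU⟩, hxW⟩
  have hinj : ∀ U : Y.Opens, Function.Injective (f.app U) := fun U s t hst => by
    refine TopCat.Sheaf.eq_of_locally_eq' Y.sheaf _ U (fun W => homOfLE W.2.2) (hcov U) s t fun W => ?_
    change res' W.2.2 s = res' W.2.2 t
    apply (h W.1 W.2.1).1
    rw [hnat, hnat, hst]
  intro U
  refine ⟨hinj U, fun t => ?_⟩
  choose s hs using fun W : {W : Y.Opens // IsAffineOpen W ∧ W ≤ U} =>
    (h W.1 W.2.1).2 (res' ((Opens.map f.base).map (homOfLE W.2.2)).le t)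
  obtain ⟨r, hr, -⟩ := Y.sheaf.existsUnique_gluing' (fun W : {W : Y.Opens // IsAffineOpen W ∧ W ≤ U} => W.1) U
    (fun W => homOfLE W.2.2) (hcov U) s
    fun W W' => by
      change res' (inf_le_left : W.1 ⊓ W'.1 ≤ W.1) (s W) = res' (inf_le_right : W.1 ⊓ W'.1 ≤ W'.1) (s W')
      apply hinj
      rw [hnat, hnat, hs, hs, res'_res', res'_res']
  replace hr : ∀ W, res' W.2.2 r = s W := hr
  refine ⟨r, TopCat.Sheaf.eq_of_locally_eq' X.sheaf (fun W : {W : Y.Opens // IsAffineOpen W ∧ W ≤ U} => f ⁻¹ᵁ W.1)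
    _ (fun W => (Opens.map f.base).map (homOfLE W.2.2)) ?_ _ _ fun W => ?_⟩
  · intro x hx
    obtain ⟨W, hW⟩ := Opens.mem_iSup.1 (hcov U hx)
    exact Opens.mem_iSup.2 ⟨W, hW⟩
  · change res' _ (f.app U r) = res' _ t
    rw [← hnat W.2.2 r, hr, hs]

/-- A weakly regular pair in the maximal ideal moves along ring isomorphisms. -/
theorem exists_pair_of_ringEquiv {A B : Type u} [CommRing A] [IsLocalRing A] [CommRing B] [IsLocalRing B]
    (e : A ≃+* B) (h : ∃ a b : A, a ∈ IsLocalRing.maximalIdeal A ∧ b ∈ IsLocalRing.maximalIdeal A ∧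
      RingTheory.Sequence.IsWeaklyRegular A [a, b]) :
    ∃ a b : B, a ∈ IsLocalRing.maximalIdeal B ∧ b ∈ IsLocalRing.maximalIdeal B ∧
      RingTheory.Sequence.IsWeaklyRegular B [a, b] := by
  obtain ⟨a, b, ha, hb, hab⟩ := h
  refine ⟨e a, e b, ?_, ?_, ?_⟩
  · simpa [mem_nonunits_iff] using ha
  · simpa [mem_nonunits_iff] using hb
  · refine (AddEquiv.isWeaklyRegular_congr (e := e.toAddEquiv) (as := [a, b]) ?_).1 hab
    simp

/-- Sections extend uniquely across points of depth at least two. -/
theorem bijective_app_of_two_le_depth {X : Scheme.{u}} [IsLocallyNoetherian X] (U : X.Opens)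
    (h : ∀ x : X, x ∉ U → (2 : ℕ∞) ≤ LocCoh.depth (X.presheaf.stalk x) (X.presheaf.stalk x)) :
    ∀ V : X.Opens, Function.Bijective (U.ι.app V) :=
  bijective_app_of_affine U.ι fun _ hV =>
    Misc7.DepthTwo.bijective_app (fun z hz => PicAux.exists_regular_pair (h z hz)) hV

/-- The depth two hypothesis at the primes of an affine scheme, from the localisations. -/
theorem bijective_app_spec {B : Type u} [CommRing B] [IsNoetherianRing B] (U : (Spec (CommRingCat.of B)).Opens)
    (h : ∀ (p : Ideal B) [p.IsPrime] (x : PrimeSpectrum B), x.asIdeal = p → x ∉ U →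
      (2 : ℕ∞) ≤ LocCoh.depth (Localization.AtPrime p) (Localization.AtPrime p)) :
    ∀ V : (Spec (CommRingCat.of B)).Opens, Function.Bijective (U.ι.app V) := by
  refine bijective_app_of_affine U.ι fun V hV => Misc7.DepthTwo.bijective_app (fun z hz => ?_) hV
  exact exists_pair_of_ringEquiv (B := (Spec (CommRingCat.of B)).presheaf.stalk z)
    (IsLocalization.algEquiv z.asIdeal.primeCompl
      (Localization.AtPrime z.asIdeal) ((Spec.structureSheaf B).presheaf.stalk z)).toRingEquiv
    (PicAux.exists_regular_pair (h z.asIdeal z rfl hz))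

/-- Sections extend uniquely across the closed point of a local ring of depth at least two. -/
theorem bijective_app_puncturedSpec (A : Type u) [CommRing A] [IsNoetherianRing A] [IsLocalRing A]
    (hA : (2 : ℕ∞) ≤ LocCoh.depth A A) :
    ∀ V : (Spec (CommRingCat.of A)).Opens, Function.Bijective ((FEt.puncturedSpec A).ι.app V) := by
  refine bijective_app_of_affine _ fun V hV => Misc7.DepthTwo.bijective_app (fun z hz => ?_) hV
  obtain rfl : z = IsLocalRing.closedPoint A := not_not.1 hz
  exact exists_pair_of_ringEquiv (B := (Spec (CommRingCat.of A)).presheaf.stalk (IsLocalRing.closedPoint A))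
    (stalkClosedPointIso (CommRingCat.of A)).symm.commRingCatIsoToRingEquiv
    (PicAux.exists_regular_pair hA)

end Groth.Pi1Depth
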