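import Groth.Agent.Pi1Depth.Basic
import Groth.Agent.Calg1.DepthTwo
import Groth.Agent.RefRank.BigOpen
import Mathlib.RingTheory.Localization.Integral
import Mathlib.RingTheory.Localization.Finiteness
import Mathlib.RingTheory.Nilpotent.Lemmas
import Mathlib.AlgebraicGeometry.QuasiAffine

/-!
# Finiteness of the sections of a finite étale cover of a punctured spectrum
-/

universe u

set_option autoImplicit false
set_option backward.isDefEq.respectTransparency false

open CategoryTheory CategoryTheory.Limits AlgebraicGeometry TopologicalSpace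

namespace Groth.Pi1Depth

/-- An algebra which is finite after inverting `g` is, up to powers of `g`, spanned by finitely many
elements. -/
theorem exists_span_pow_smul {A B A' B' : Type u} [CommRing A] [CommRing B] [CommRing A'] [CommRing B']
    [Algebra A B] (g : A) [Algebra A A'] [IsLocalization.Away g A'] [Algebra B B']
    [IsLocalization.Away (algebraMap A B g) B'] (φ : A' →+* B') (hφ : φ.Finite)
    (hcomm : ∀ a, φ (algebraMap A A' a) = algebraMap B B' (algebraMap A B a)) :
    ∃ t : Finset B, ∀ b : B, ∃ n : ℕ, g ^ n • b ∈ Submodule.span A (t : Set B) := by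
  classical
  algebraize [φ]
  obtain ⟨Y, hY⟩ := Module.Finite.fg_top (R := A') (M := B')
  have hsurj : ∀ y : B', ∃ (n : ℕ) (z : B), algebraMap B B' (algebraMap A B g) ^ n * y = algebraMap B B' z := by
    intro y
    obtain ⟨n, z, hz⟩ := IsLocalization.Away.surj (algebraMap A B g) y
    exact ⟨n, z, by rw [mul_comm]; exact hz⟩
  choose n z hz using hsurj
  refine ⟨Y.image z, fun b => ?_⟩
  let N := Submodule.span A (↑(Y.image z) : Set B)
  let G := algebraMap B B' (algebraMap A B g)
  suffices h : ∀ y ∈ Submodule.span A' (Y : Set B'), ∃ m : ℕ, ∃ w ∈ N, G ^ m * y = algebraMap B B' w by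
    obtain ⟨m, w, hw, hmw⟩ := h (algebraMap B B' b) (hY.symm ▸ Submodule.mem_top)
    rw [← map_pow, ← map_mul] at hmw
    obtain ⟨⟨_, k, rfl⟩, hk⟩ := IsLocalization.exists_of_eq (M := Submonoid.powers (algebraMap A B g)) hmw
    refine ⟨k + m, ?_⟩
    have : g ^ (k + m) • b = g ^ k • w := by
      simp only at hk
      rw [Algebra.smul_def, Algebra.smul_def, map_pow, map_pow, pow_add, mul_assoc, hk]
    rw [this]
    exact N.smul_mem _ hw
  intro y hy
  induction hy using Submodule.span_induction with
  | mem y hy => exact ⟨n y, z y, Submodule.subset_span (by simpa using ⟨y, hy, rfl⟩), hz y⟩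
  | zero => exact ⟨0, 0, N.zero_mem, by simp⟩
  | add x y _ _ hx hy =>
    obtain ⟨m, w, hw, hm⟩ := hx
    obtain ⟨m', w', hw', hm'⟩ := hy
    refine ⟨m + m', g ^ m' • w + g ^ m • w', N.add_mem (N.smul_mem _ hw) (N.smul_mem _ hw'), ?_⟩
    rw [map_add, Algebra.smul_def, Algebra.smul_def, map_mul, map_mul, map_pow, map_pow, map_pow,
      map_pow, ← hm, ← hm']
    ring
  | smul c y _ hy =>
    obtain ⟨m, w, hw, hm⟩ := hy
    obtain ⟨k, a, ha⟩ := IsLocalization.Away.surj g c
    refine ⟨k + m, a • w, N.smul_mem _ hw, ?_⟩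
    rw [Algebra.smul_def, Algebra.smul_def, map_mul, RingHom.algebraMap_toAlgebra, ← hcomm a, ← ha,
      map_mul, map_pow, hcomm, ← hm]
    ring

open IsLocalRing in
/-- Fractions which are integral off the closed point are integral. -/
theorem mem_range_of_pow_mul_mem {A : Type u} [CommRing A] [IsDomain A] [IsLocalRing A] [IsNoetherianRing A]
    (hd : (2 : ℕ∞) ≤ LocCoh.depth A A) (K : Type u) [Field K] [Algebra A K] [IsFractionRing A K] :
    ∀ (k : ℕ) (x : K), (∀ t ∈ maximalIdeal A ^ k, t • x ∈ LinearMap.range (Algebra.linearMap A K)) →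
      x ∈ LinearMap.range (Algebra.linearMap A K) := by
  intro k
  induction k with
  | zero => intro x hx; simpa using hx 1 (by simp)
  | succ k ih =>
    intro x hx
    refine Calg1.mem_range_of_two_le_depth (Algebra.linearMap A K) (IsFractionRing.injective A K) hd
      (fun y hy => ?_) fun t ht => ih _ fun s hs => ?_
    · obtain ⟨a, b, ha, -, hab⟩ := PicAux.exists_regular_pair hd
      have h2 : IsSMulRegular A a := ((RingTheory.Sequence.isWeaklyRegular_cons_iff _ _ _).1 hab).1
      have ha0 : a ≠ 0 := fun h => one_ne_zero (h2 (by simp [h] : a • (1 : A) = a • 0))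
      have h3 := hy a ha
      rw [Algebra.smul_def, mul_eq_zero] at h3
      exact h3.resolve_left (IsFractionRing.to_map_ne_zero_of_mem_nonZeroDivisors
        (mem_nonZeroDivisors_of_ne_zero ha0))
    · rw [smul_smul]
      exact hx _ (by rw [pow_succ]; exact Ideal.mul_mem_mul hs ht)

open IsLocalRing in
/-- An algebra torsion free over a local domain of depth two which is finite off the closed point is
finite. -/
theorem module_finite_of_span_pow_smul {A B : Type u} [CommRing A] [IsDomain A] [IsLocalRing A]
    [IsNoetherianRing A] [AddCommGroup B] [Module A B] (hd : (2 : ℕ∞) ≤ LocCoh.depth A A)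
    {ι : Type u} [Finite ι] [Nonempty ι] (g : ι → A) (hg : ∀ i, g i ≠ 0)
    (hrad : maximalIdeal A ≤ (Ideal.span (Set.range g)).radical)
    (htf : ∀ (a : A), a ≠ 0 → ∀ b : B, a • b = 0 → b = 0)
    (hfin : ∀ i, ∃ t : Finset B, ∀ b : B, ∃ n : ℕ, g i ^ n • b ∈ Submodule.span A (t : Set B)) :
    Module.Finite A B := by
  classical
  have := Fintype.ofFinite ι
  choose t ht using hfin
  let T := Finset.univ.biUnion t
  let K := Localization (nonZeroDivisors A)
  have : IsFractionRing A K := inferInstanceAs (IsFractionRing A (FractionRing A))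
  let _ : Field K := IsFractionRing.toField A
  let W := LocalizedModule (nonZeroDivisors A) B
  let emb : B →ₗ[A] W := LocalizedModule.mkLinearMap (nonZeroDivisors A) B
  have hemb : Function.Injective emb := by
    rw [injective_iff_map_eq_zero]
    intro b hb
    obtain ⟨c, hc⟩ := (IsLocalizedModule.eq_zero_iff (nonZeroDivisors A) emb).1 hb
    exact htf c (nonZeroDivisors.coe_ne_zero c) b hc
  have : Module.Finite K W := by
    obtain ⟨i⟩ := ‹Nonempty ι›
    refine ⟨⟨(t i).image emb, ?_⟩⟩
    rw [eq_top_iff]
    rintro x -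
    induction x using LocalizedModule.induction_on with
    | h b s =>
      obtain ⟨n, hn⟩ := ht i b
      have h1 : emb (g i ^ n • b) ∈ Submodule.span K (↑((t i).image emb) : Set W) := by
        refine Submodule.span_le_restrictScalars A K _ ?_
        rw [Finset.coe_image, ← Submodule.map_span]
        exact Submodule.mem_map_of_mem hn
      have hu : g i ^ n * (s : A) ∈ nonZeroDivisors A :=
        mul_mem (pow_mem (mem_nonZeroDivisors_of_ne_zero (hg i)) n) s.2
      have h2 : (LocalizedModule.mk b s : W) = Localization.mk 1 ⟨_, hu⟩ • emb (g i ^ n • b) := by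
        rw [LocalizedModule.mkLinearMap_apply, LocalizedModule.mk_smul_mk, one_smul, mul_one,
          LocalizedModule.mk_eq]
        exact ⟨1, by simp only [one_smul, Submonoid.smul_def, smul_smul]; rw [mul_comm]⟩
      rw [h2]
      exact Submodule.smul_mem _ _ h1
  let c : B →ₗ[A] (Fin (Module.finrank K W) → K) :=
    ((Module.finBasis K W).equivFun.toLinearMap.restrictScalars A).comp emb
  obtain ⟨⟨d, hd0⟩, hd'⟩ := IsLocalization.exist_integer_multiples (nonZeroDivisors A)
    (T ×ˢ (Finset.univ : Finset (Fin (Module.finrank K W)))) (fun p => c p.1 p.2)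
  let R := LinearMap.range (Algebra.linearMap A K)
  have hR : ∀ b j, d • c b j ∈ R := by
    intro b j
    let J : Ideal A := R.comap (LinearMap.toSpanSingleton A K (d • c b j))
    obtain ⟨k, hk⟩ : ∃ k, maximalIdeal A ^ k ≤ J := by
      refine Ideal.exists_pow_le_of_le_radical_of_fg (hrad.trans (Ideal.radical_le_radical_iff.2 ?_))
        (IsNoetherian.noetherian _)
      rw [Ideal.span_le]
      rintro _ ⟨i, rfl⟩
      obtain ⟨n, hn⟩ := ht i b
      refine ⟨n, ?_⟩
      change g i ^ n • d • c b j ∈ R
      rw [smul_comm, show g i ^ n • c b j = c (g i ^ n • b) j by rw [map_smul, Pi.smul_apply]]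
      have : Submodule.span A (↑(t i) : Set B) ≤
          R.comap (((d : A) • LinearMap.proj j).comp c) := by
        rw [Submodule.span_le]
        intro x hx
        obtain ⟨a, ha⟩ := hd' (x, j) (Finset.mem_product.2
          ⟨Finset.mem_biUnion.2 ⟨i, Finset.mem_univ _, hx⟩, Finset.mem_univ _⟩)
        exact ⟨a, ha⟩
      exact this hn
    exact mem_range_of_pow_mul_mem hd K k _ fun s hs => hk hs
  let L : (Fin (Module.finrank K W) → A) →ₗ[A] (Fin (Module.finrank K W) → K) :=
    LinearMap.pi fun j => (Algebra.linearMap A K).comp (LinearMap.proj j)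
  have hL : Function.Injective L := fun x y h =>
    funext fun j => IsFractionRing.injective A K (congrFun h j)
  have hle : LinearMap.range (d • c) ≤ LinearMap.range L := by
    rintro _ ⟨b, rfl⟩
    choose a ha using hR b
    exact ⟨a, funext fun j => ha j⟩
  have : Module.Finite A (LinearMap.range L) :=
    Module.Finite.equiv (LinearEquiv.ofInjective L hL)
  refine Module.Finite.of_injective ((Submodule.inclusion hle).comp (d • c).rangeRestrict) ?_
  intro x y h
  have h' : d • c x = d • c y := congrArg Subtype.val h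
  refine hemb ((Module.finBasis K W).equivFun.injective (funext fun j => ?_))
  have := congrFun h' j
  simp only [Pi.smul_apply, Algebra.smul_def] at this
  exact mul_left_cancel₀ (IsFractionRing.to_map_ne_zero_of_mem_nonZeroDivisors hd0) this

variable {A : Type u} [CommRing A] [IsDomain A] [IsLocalRing A] [IsNoetherianRing A]

/-- Global sections of a finite étale cover of the punctured spectrum of a local domain of depth at
least two are finite. -/
theorem finite_appTop_of_cover (hd : (2 : ℕ∞) ≤ LocCoh.depth A A) {V : Scheme.{u}}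
    (π : V ⟶ (FEt.puncturedSpec A : Scheme.{u})) [IsFinite π] [Flat π] :
    ((Scheme.ΓSpecIso (CommRingCat.of A)).inv ≫ (π ≫ (FEt.puncturedSpec A).ι).appTop).hom.Finite := by
  classical
  let X := Spec (CommRingCat.of A)
  let U := FEt.puncturedSpec A
  let h : V ⟶ X := π ≫ U.ι
  let φ : A →+* Γ(V, ⊤) := ((Scheme.ΓSpecIso (CommRingCat.of A)).inv ≫ h.appTop).hom
  change φ.Finite
  let _ : Algebra A Γ(V, ⊤) := φ.toAlgebra
  change Module.Finite A Γ(V, ⊤)
  let e : A →+* Γ(X, ⊤) := (Scheme.ΓSpecIso (CommRingCat.of A)).inv.hom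
  have hb := bijective_app_puncturedSpec A hd
  obtain ⟨s, hs⟩ := IsNoetherian.noetherian (IsLocalRing.maximalIdeal A)
  let ι := {a : A // a ∈ s ∧ a ≠ 0}
  have : Finite ι := (s.finite_toSet.subset fun a ha => ha.1).to_subtype
  have hspan : IsLocalRing.maximalIdeal A ≤ Ideal.span (Set.range (fun i : ι => i.1)) := by
    refine hs.ge.trans ?_
    change Ideal.span (s : Set A) ≤ _
    rw [Ideal.span_le]
    intro a ha
    by_cases h0 : a = 0
    · rw [h0]; exact zero_mem _
    · exact Ideal.subset_span ⟨⟨a, ha, h0⟩, rfl⟩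
  have : Nonempty ι := by
    obtain ⟨a, b, ha, -, hab⟩ := PicAux.exists_regular_pair hd
    have h2 : IsSMulRegular A a := ((RingTheory.Sequence.isWeaklyRegular_cons_iff _ _ _).1 hab).1
    by_contra hι
    rw [not_nonempty_iff] at hι
    have := hspan ha
    rw [Set.range_eq_empty, Ideal.span_empty, Ideal.mem_bot] at this
    exact one_ne_zero (h2 (by simp [this] : a • (1 : A) = a • 0))
  have : CompactSpace U := isCompact_iff_compactSpace.1 (TopologicalSpace.NoetherianSpace.isCompact _)
  have hcompact : CompactSpace V := QuasiCompact.compactSpace_of_compactSpace π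
  have : QuasiSeparatedSpace V := by
    have : IsSeparated h := inferInstance
    exact (quasiSeparated_iff_quasiSeparatedSpace h).1 inferInstance
  have hD : ∀ i : ι, X.basicOpen (e i.1) ≤ U := by
    intro i x hx
    rw [basicOpen_eq_of_affine] at hx
    intro hxm
    have hxm' : x = IsLocalRing.closedPoint A := hxm
    refine hx ?_
    rw [hxm']
    exact hs.le (Submodule.subset_span i.2.1)
  have hfin : ∀ i : ι, (h.app (X.basicOpen (e i.1))).hom.Finite := by
    intro i
    rw [Scheme.Hom.comp_app, CommRingCat.hom_comp]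
    refine RingHom.Finite.comp (IsFinite.finite_app (f := π) _ ?_)
      (RingHom.Finite.of_surjective _ (hb _).2)
    rw [← Scheme.Hom.isAffineOpen_iff_of_isOpenImmersion U.ι,
      Scheme.Hom.image_preimage_eq_opensRange_inf, Scheme.Opens.opensRange_ι, inf_eq_right.2 (hD i)]
    exact (isAffineOpen_top X).basicOpen _
  have hcomm : ∀ (W : X.Opens) (a : A), (h.app W) (X.presheaf.map (homOfLE (le_top : W ≤ ⊤)).op (e a)) =
      V.presheaf.map (homOfLE (le_top : h ⁻¹ᵁ W ≤ ⊤)).op (φ a) := fun W a =>
    congrArg (fun ψ => ψ.hom (e a)) (h.naturality (homOfLE (le_top : W ≤ ⊤)).op)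
  have hbo : ∀ a : A, h ⁻¹ᵁ X.basicOpen (e a) = V.basicOpen (φ a) := fun a => by
    rw [Scheme.preimage_basicOpen_top]
    rfl
  refine module_finite_of_span_pow_smul hd (fun i : ι => i.1) (fun i => i.2.2)
    (hspan.trans Ideal.le_radical) ?_ ?_
  · intro a ha b hab
    refine TopCat.Sheaf.eq_of_locally_eq' V.sheaf (fun i : ι => h ⁻¹ᵁ X.basicOpen (e i.1)) ⊤
      (fun i => homOfLE le_top) ?_ _ _ fun i => ?_
    · intro x _
      by_contra hx
      simp only [Opens.mem_iSup, not_exists] at hx
      apply (π x).2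
      change U.ι (π x) = IsLocalRing.closedPoint A
      refine PrimeSpectrum.ext (le_antisymm (IsLocalRing.le_maximalIdeal (U.ι (π x)).isPrime.ne_top) ?_)
      refine hspan.trans (Ideal.span_le.2 ?_)
      rintro _ ⟨i, rfl⟩
      by_contra hni
      refine hx i ?_
      change U.ι (π x) ∈ X.basicOpen (e i.1)
      rw [basicOpen_eq_of_affine]
      exact hni
    let W := X.basicOpen (e i.1)
    have hW : IsAffineOpen W := (isAffineOpen_top X).basicOpen _
    let _ : Algebra A Γ(X, W) := ((X.presheaf.map (homOfLE (le_top : W ≤ ⊤)).op).hom.comp e).toAlgebra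
    have hflat : (h.app W).hom.Flat := by
      rw [Scheme.Hom.app_eq_appLE]
      exact h.flat_appLE hW (by
        change IsAffineOpen (π ⁻¹ᵁ (U.ι ⁻¹ᵁ W))
        refine IsAffineOpen.preimage ?_ π
        rw [← Scheme.Hom.isAffineOpen_iff_of_isOpenImmersion U.ι,
          Scheme.Hom.image_preimage_eq_opensRange_inf, Scheme.Opens.opensRange_ι, inf_eq_right.2 (hD i)]
        exact hW) le_rfl
    change V.presheaf.map (homOfLE _).op b = V.presheaf.map (homOfLE _).op 0
    rw [map_zero]
    let _ : Algebra Γ(X, W) Γ(V, h ⁻¹ᵁ W) := (h.app W).hom.toAlgebra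
    have hF : Module.Flat Γ(X, W) Γ(V, h ⁻¹ᵁ W) := hflat
    have : IsLocalization.Away (e i.1) Γ(X, W) :=
      let _ : Algebra Γ(X, ⊤) Γ(X, W) := (X.presheaf.map (homOfLE le_top).op).hom.toAlgebra
      (isAffineOpen_top X).isLocalization_basicOpen _
    have hinj : Function.Injective (X.presheaf.map (homOfLE (le_top : W ≤ ⊤)).op) := by
      let _ : Algebra Γ(X, ⊤) Γ(X, W) := (X.presheaf.map (homOfLE le_top).op).hom.toAlgebra
      have : IsLocalization.Away (e i.1) Γ(X, W) := (isAffineOpen_top X).isLocalization_basicOpen _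
      have : IsDomain Γ(X, ⊤) := MulEquiv.isDomain _
        (Scheme.ΓSpecIso (CommRingCat.of A)).commRingCatIsoToRingEquiv.toMulEquiv
      exact IsLocalization.injective Γ(X, W) (powers_le_nonZeroDivisors_of_noZeroDivisors
        fun h0 => i.2.2 ((ConcreteCategory.bijective_of_isIso (Scheme.ΓSpecIso (CommRingCat.of A)).inv).1
          (h0.trans (map_zero e).symm)))
    have hdom : IsDomain Γ(X, W) := by
      let _ : Algebra Γ(X, ⊤) Γ(X, W) := (X.presheaf.map (homOfLE le_top).op).hom.toAlgebra
      have : IsLocalization.Away (e i.1) Γ(X, W) := (isAffineOpen_top X).isLocalization_basicOpen _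
      have : IsDomain Γ(X, ⊤) := MulEquiv.isDomain _
        (Scheme.ΓSpecIso (CommRingCat.of A)).commRingCatIsoToRingEquiv.toMulEquiv
      exact IsLocalization.isDomain_of_le_nonZeroDivisors (R := Γ(X, ⊤)) (M := Submonoid.powers (e i.1)) Γ(X, W) (powers_le_nonZeroDivisors_of_noZeroDivisors
        fun h0 => i.2.2 ((ConcreteCategory.bijective_of_isIso (Scheme.ΓSpecIso (CommRingCat.of A)).inv).1
          (h0.trans (map_zero e).symm)))
    let a' : Γ(X, W) := X.presheaf.map (homOfLE (le_top : W ≤ ⊤)).op (e a)
    have ha' : a' ≠ 0 := fun h0 => ha ((ConcreteCategory.bijective_of_isIso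
      (Scheme.ΓSpecIso (CommRingCat.of A)).inv).1 ((hinj (h0.trans (map_zero _).symm)).trans (map_zero e).symm))
    have hreg : IsSMulRegular Γ(V, h ⁻¹ᵁ W) a' :=
      Module.Flat.isSMulRegular_of_nonZeroDivisors (mem_nonZeroDivisors_of_ne_zero ha')
    refine hreg.right_eq_zero_of_smul ?_
    rw [Algebra.smul_def, RingHom.algebraMap_toAlgebra]
    erw [hcomm W a, ← map_mul, show φ a * b = a • b from rfl, hab, map_zero]
  · intro i
    let _ : Algebra A Γ(X, X.basicOpen (e i.1)) :=
      ((X.presheaf.map (homOfLE (X.basicOpen_le (e i.1))).op).hom.comp e).toAlgebra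
    have : IsLocalization.Away i.1 Γ(X, X.basicOpen (e i.1)) := by
      let _ : Algebra Γ(X, ⊤) Γ(X, X.basicOpen (e i.1)) :=
        (X.presheaf.map (homOfLE (X.basicOpen_le (e i.1))).op).hom.toAlgebra
      have : IsLocalization.Away (e i.1) Γ(X, X.basicOpen (e i.1)) :=
        (isAffineOpen_top X).isLocalization_basicOpen _
      have h2 := IsLocalization.isLocalization_of_base_ringEquiv (Submonoid.powers (e i.1))
        Γ(X, X.basicOpen (e i.1)) (Scheme.ΓSpecIso (CommRingCat.of A)).commRingCatIsoToRingEquiv
      rw [Submonoid.map_powers] at h2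
      have he : ((Scheme.ΓSpecIso (CommRingCat.of A)).commRingCatIsoToRingEquiv : Γ(X, ⊤) ≃* A) (e i.1) = i.1 :=
        (Scheme.ΓSpecIso (CommRingCat.of A)).commRingCatIsoToRingEquiv.apply_symm_apply i.1
      erw [he] at h2
      exact h2
    let _ : Algebra Γ(V, ⊤) Γ(V, V.basicOpen (φ i.1)) :=
      (V.presheaf.map (homOfLE (V.basicOpen_le (φ i.1))).op).hom.toAlgebra
    have : IsLocalization.Away (algebraMap A Γ(V, ⊤) i.1) Γ(V, V.basicOpen (φ i.1)) :=
      isLocalization_basicOpen_of_qcqs isCompact_univ isQuasiSeparated_univ _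
    refine exists_span_pow_smul i.1 (h.appLE (X.basicOpen (e i.1)) (V.basicOpen (φ i.1)) (hbo i.1).ge).hom ?_ fun a => ?_
    · have hf := hfin i
      have : IsIso (V.presheaf.map (homOfLE (hbo i.1).ge).op) := by
        rw [show homOfLE (hbo i.1).ge = eqToHom (hbo i.1).symm from rfl]
        infer_instance
      rw [Scheme.Hom.appLE, CommRingCat.hom_comp]
      exact RingHom.Finite.comp (RingHom.Finite.of_surjective _
        (ConcreteCategory.bijective_of_isIso _).2) hf
    · simp only [RingHom.algebraMap_toAlgebra, RingHom.comp_apply, ← CommRingCat.comp_apply,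
        Scheme.Hom.map_appLE]
      rfl

end Groth.Pi1Depth
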