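import Groth.Agent.Pi1Depth.Basic
import Mathlib.AlgebraicGeometry.Morphisms.FormallyUnramified
import Mathlib.AlgebraicGeometry.Morphisms.Etale

/-!
# A finite flat morphism, étale away from depth two, is étale
-/

universe u

set_option autoImplicit false
set_option backward.isDefEq.respectTransparency false

open CategoryTheory CategoryTheory.Limits AlgebraicGeometry TopologicalSpace

namespace Groth.Pi1Depth

variable {X : Scheme.{u}} {U : X.Opens}

/-- `O = ι_* O` is inherited by finite locally free covers, on global sections. -/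
theorem bijective_appTop_preimage [IsAffine X] (hU : ∀ V : X.Opens, Function.Bijective (U.ι.app V))
    {A : Scheme.{u}} (a : A ⟶ X) [IsFinite a] [Flat a] [LocallyOfFinitePresentation a] :
    Function.Bijective (a ⁻¹ᵁ U).ι.appTop := by
  have H : IsPullback (a ⁻¹ᵁ U).ι (a ∣_ U) a U.ι := (isPullback_morphismRestrict a U).flip
  have h := Pi1FEt.bijective_app_baseChange (g := (a ⁻¹ᵁ U).ι) (π := a ∣_ U) (a := a) (f := U.ι) (V := ⊤) H
    (isAffineOpen_top X) hU
  exact h

variable [IsAffine X] (hU : ∀ V : X.Opens, Function.Bijective (U.ι.app V))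
  {Y : Scheme.{u}} (π : Y ⟶ X) [IsFinite π] [Flat π] [LocallyOfFinitePresentation π]

include hU in
/-- A finite locally free morphism which is unramified over `U` has open diagonal. -/
theorem isOpenImmersion_diagonal_of_restrict [FormallyUnramified ((π ⁻¹ᵁ U).ι ≫ π)] :
    IsOpenImmersion (pullback.diagonal π) := by
  have : IsAffine Y := isAffine_of_isAffineHom π
  let Δ := pullback.diagonal π
  let c : pullback π π ⟶ X := pullback.fst π π ≫ π
  have hΔc : Δ ≫ c = π := by simp [Δ, c]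
  have : IsAffine (pullback π π) := isAffine_of_isAffineHom c
  let Y₀ := π ⁻¹ᵁ U
  let Z₀ := c ⁻¹ᵁ U
  -- the diagonal over `U` is open
  have : IsOpenImmersion (Y₀.ι ≫ Δ) := by
    have h : Y₀.ι ≫ Δ = pullback.diagonal (Y₀.ι ≫ π) ≫
        pullback.map (Y₀.ι ≫ π) (Y₀.ι ≫ π) π π Y₀.ι Y₀.ι (𝟙 X) (by simp) (by simp) := by
      apply pullback.hom_ext <;> simp [Δ]
    rw [h]
    infer_instance
  let D : Set (Z₀ : Scheme.{u}) := Z₀.ι.base ⁻¹' Set.range Δ.base
  have hrange : Set.range (Y₀.ι ≫ Δ).base = Set.range Δ.base ∩ (Z₀ : Set ↥(pullback π π)) := by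
    ext z
    constructor
    · rintro ⟨y, rfl⟩
      refine ⟨⟨Y₀.ι y, rfl⟩, ?_⟩
      change (Δ ≫ c) (Y₀.ι y) ∈ U
      rw [hΔc]
      exact y.2
    · rintro ⟨⟨y, rfl⟩, hy⟩
      have hy' : y ∈ Y₀ := by
        change π y ∈ U
        rw [← hΔc]
        exact hy
      exact ⟨⟨y, hy'⟩, rfl⟩
  have hD : IsClopen D := by
    refine ⟨Δ.isClosedEmbedding.isClosed_range.preimage Z₀.ι.continuous, ?_⟩
    have : D = Z₀.ι.base ⁻¹' Set.range (Y₀.ι ≫ Δ).base := by
      rw [hrange, Set.preimage_inter]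
      exact (Set.inter_eq_left.2 fun x _ => x.2).symm
    rw [this]
    exact (Y₀.ι ≫ Δ).isOpenEmbedding.isOpen_range.preimage Z₀.ι.continuous
  have hbZ : Function.Bijective Z₀.ι.appTop := bijective_appTop_preimage hU c
  obtain ⟨e₀, he₀, hD₀⟩ := Pi1FEt.exists_idem_of_clopen ⊤ D hD
  obtain ⟨e, he⟩ := hbZ.2 e₀
  have hidem : e * e = e := hbZ.1 (by rw [map_mul, he, he₀])
  let C := (pullback π π).basicOpen e
  have hCclosed : IsClosed (C : Set ↥(pullback π π)) := by
    have h1 : ((pullback π π).basicOpen (1 - e) : Set ↥(pullback π π)) = (C : Set ↥(pullback π π))ᶜ := by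
      ext z
      simp only [C, Set.mem_compl_iff, SetLike.mem_coe,
        Scheme.mem_basicOpen_top]
      let g := (pullback π π).presheaf.germ ⊤ z trivial
      have hg : g e * (1 - g e) = 0 := by rw [mul_sub, mul_one, ← map_mul, hidem, sub_self]
      constructor
      · intro h h'
        exact not_isUnit_zero (hg ▸ (h'.mul (by simpa [g] using h)))
      · intro h
        simpa [g] using (IsLocalRing.isUnit_or_isUnit_one_sub_self (g e)).resolve_left h
    rw [← isOpen_compl_iff, ← h1]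
    exact ((pullback π π).basicOpen (1 - e)).2
  -- the diagonal lands in `C`
  have hbY : Function.Bijective Y₀.ι.appTop := bijective_appTop_preimage hU π
  have he' : Δ.appTop e = 1 := by
    apply hbY.1
    have hu : IsUnit (Y₀.ι.appTop (Δ.appTop e)) := by
      refine RingedSpace.isUnit_of_isUnit_germ _ ⊤ _ fun y _ => ?_
      have hy : y ∈ (Y₀ : Scheme.{u}).basicOpen (Y₀.ι.appTop (Δ.appTop e)) := by
        rw [← Scheme.preimage_basicOpen_top, ← Scheme.preimage_basicOpen_top]
        have hz : Δ (Y₀.ι y) ∈ Z₀ := (hrange.le ⟨y, rfl⟩).2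
        have hzD : (⟨_, hz⟩ : (Z₀ : Scheme.{u})) ∈ (Z₀ : Scheme.{u}).basicOpen e₀ :=
          hD₀.ge ⟨⟨Y₀.ι y, rfl⟩, trivial⟩
        rw [← he, ← Scheme.preimage_basicOpen_top] at hzD
        exact hzD
      exact (Scheme.mem_basicOpen _ _ _ (Set.mem_univ y)).1 hy
    rw [map_one]
    refine hu.mul_left_cancel ?_
    rw [mul_one, ← map_mul, ← map_mul, hidem]
  have hΔC : Set.range Δ.base ⊆ Set.range C.ι.base := by
    rintro _ ⟨y, rfl⟩
    rw [Scheme.Opens.range_ι]
    change y ∈ Δ ⁻¹ᵁ C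
    rw [Scheme.preimage_basicOpen_top, he', Scheme.basicOpen_of_isUnit _ isUnit_one]
    trivial
  let k := IsOpenImmersion.lift C.ι Δ hΔC
  have hk : k ≫ C.ι = Δ := IsOpenImmersion.lift_fac _ _ _
  have : IsClosedImmersion C.ι :=
    .of_isPreimmersion _ (by rw [Scheme.Opens.range_ι]; exact hCclosed)
  let c' := C.ι ≫ c
  have hkc : k ≫ c' = π := by rw [← Category.assoc, hk, hΔc]
  have : IsAffine (C : Scheme.{u}) := isAffine_of_isAffineHom C.ι
  let C₀ := c' ⁻¹ᵁ U
  have hk0 : Set.range (Y₀.ι ≫ k).base ⊆ Set.range C₀.ι.base := by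
    rintro _ ⟨y, rfl⟩
    rw [Scheme.Opens.range_ι]
    change (k ≫ c') (Y₀.ι y) ∈ U
    rw [hkc]
    exact y.2
  let k₀ := IsOpenImmersion.lift C₀.ι (Y₀.ι ≫ k) hk0
  have hk₀ : k₀ ≫ C₀.ι = Y₀.ι ≫ k := IsOpenImmersion.lift_fac _ _ _
  have : IsOpenImmersion k₀ := by
    have : IsOpenImmersion ((k₀ ≫ C₀.ι) ≫ C.ι) := by rw [hk₀, Category.assoc, hk]; infer_instance
    have : IsOpenImmersion (k₀ ≫ C₀.ι) := IsOpenImmersion.of_comp _ C.ι
    exact IsOpenImmersion.of_comp _ C₀.ι
  have hsurj : Function.Surjective k₀.base := by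
    intro w
    have hzZ : C.ι (C₀.ι w) ∈ Z₀ := w.2
    have hzC : C.ι (C₀.ι w) ∈ C := (C₀.ι w).2
    have hzD : (⟨_, hzZ⟩ : (Z₀ : Scheme.{u})) ∈ D := by
      have : (⟨_, hzZ⟩ : (Z₀ : Scheme.{u})) ∈ (Z₀ : Scheme.{u}).basicOpen e₀ := by
        rw [← he, ← Scheme.preimage_basicOpen_top]
        exact hzC
      exact (hD₀.le this).1
    obtain ⟨y, hy⟩ := hrange.ge ⟨hzD, hzZ⟩
    refine ⟨y, ?_⟩
    apply C₀.ι.isOpenEmbedding.injective
    apply C.ι.isOpenEmbedding.injective
    rw [← Scheme.Hom.comp_apply, ← Scheme.Hom.comp_apply, reassoc_of% hk₀, hk]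
    exact hy
  have : Surjective k₀ := ⟨hsurj⟩
  have : IsIso k₀ := (isIso_iff_isOpenImmersion_and_epi_base _).2
    ⟨inferInstance, (TopCat.epi_iff_surjective _).2 hsurj⟩
  have : IsIso k := by
    have hbC : Function.Bijective C₀.ι.appTop := bijective_appTop_preimage hU c'
    have h1 : C₀.ι.appTop ≫ k₀.appTop = k.appTop ≫ Y₀.ι.appTop := by
      rw [← Scheme.Hom.comp_appTop, hk₀, Scheme.Hom.comp_appTop]
    have : IsIso k.appTop := by
      have : IsIso C₀.ι.appTop := (ConcreteCategory.isIso_iff_bijective _).2 hbC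
      have : IsIso Y₀.ι.appTop := (ConcreteCategory.isIso_iff_bijective _).2 hbY
      have : IsIso k₀.appTop := inferInstanceAs (IsIso (k₀.app ⊤))
      have : IsIso (k.appTop ≫ Y₀.ι.appTop) := h1 ▸ inferInstance
      exact IsIso.of_isIso_comp_right k.appTop Y₀.ι.appTop
    exact ((MorphismProperty.isomorphisms Scheme).arrow_mk_iso_iff (arrowIsoSpecΓOfIsAffine k)).2
      (inferInstanceAs (IsIso (Spec.map k.appTop)))
  change IsOpenImmersion Δ
  rw [← hk]
  infer_instance

include hU in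
/-- A finite locally free morphism which is étale over `U` is étale. -/
theorem etale_of_restrict [Etale ((π ⁻¹ᵁ U).ι ≫ π)] : Etale π := by
  have := isOpenImmersion_diagonal_of_restrict hU π
  exact Etale.of_formallyUnramified_of_flat π

end Groth.Pi1Depth
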