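import Groth.Agent.Pi1Formal.FullyFaithful
import Groth.Agent.ParaFormal.StalkCriterion

/-!
# Finiteness of the sections of a finite étale cover across depth two
-/

universe u

set_option autoImplicit false
set_option backward.isDefEq.respectTransparency false
set_option backward.defeqAttrib.useBackward true
set_option linter.style.haveILetI false

open CategoryTheory CategoryTheory.Limits AlgebraicGeometry TopologicalSpace TensorProduct

namespace Groth.Pi1S2

open Groth.PicAux Groth.Pi1Formal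

variable {X W : Scheme.{u}} [IsLocallyNoetherian X] {U : X.Opens} (w : W ⟶ (U : Scheme.{u})) [IsFinite w]
  [Etale w]

/-- Over a basic open inside `U` the cover is finite étale, and becomes free on a smaller one. -/
theorem exists_good {O : X.Opens} (hO : IsAffineOpen O) {p : X} (hpU : p ∈ U) (hpO : p ∈ O) :
    letI := ((w ≫ U.ι).app O).hom.toAlgebra
    ∃ b : Γ(X, O), X.basicOpen b ≤ U ∧ p ∈ X.basicOpen b ∧
      Good Γ(X, O) Γ(W, (w ≫ U.ι) ⁻¹ᵁ O) Γ(X, X.basicOpen b) := by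
  let f := w ≫ U.ι
  letI : Algebra Γ(X, O) Γ(W, f ⁻¹ᵁ O) := (f.app O).hom.toAlgebra
  haveI : IsNoetherianRing Γ(X, O) := IsLocallyNoetherian.component_noetherian ⟨O, hO⟩
  obtain ⟨a, haU, hpa⟩ := hO.exists_basicOpen_le (V := U) ⟨p, hpU⟩ hpO
  let T := Γ(X, X.basicOpen a)
  let C := Γ(W, f ⁻¹ᵁ O)
  let D := Γ(W, f ⁻¹ᵁ X.basicOpen a)
  letI algCD : Algebra C D := (W.presheaf.map (homOfLE (f.preimage_mono (X.basicOpen_le a))).op).hom.toAlgebra
  letI : Algebra T D := (f.app (X.basicOpen a)).hom.toAlgebra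
  letI : Algebra Γ(X, O) D := ((algebraMap C D).comp (algebraMap Γ(X, O) C)).toAlgebra
  haveI : IsScalarTower Γ(X, O) C D := .of_algebraMap_eq' rfl
  haveI : IsScalarTower Γ(X, O) T D := .of_algebraMap_eq fun x =>
    (congr($(f.naturality (homOfLE (X.basicOpen_le a)).op).hom x)).symm
  haveI : IsLocalization.Away a T := hO.isLocalization_basicOpen a
  haveI : IsLocalization.Away (algebraMap Γ(X, O) C a) D := by
    let : Algebra C Γ(W, W.basicOpen (f.app O a)) :=
      (W.presheaf.map (homOfLE (W.basicOpen_le _)).op).hom.toAlgebra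
    dsimp +instances [algCD, D]
    rw! (castMode := .all) [f.preimage_basicOpen a]
    exact isLocalization_basicOpen_of_qcqs (f.isCompact_preimage hO.isCompact)
        (f.isQuasiSeparated_preimage hO.isQuasiSeparated) (f.app O a)
  haveI : IsLocalization (Algebra.algebraMapSubmonoid C (Submonoid.powers a)) D := by
    rw [Algebra.algebraMapSubmonoid, Submonoid.map_powers]
    infer_instance
  haveI : Algebra.IsPushout Γ(X, O) C T D := Algebra.isPushout_of_isLocalization (Submonoid.powers a) T C D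
  haveI : Algebra.IsPushout Γ(X, O) T C D := Algebra.IsPushout.symm inferInstance
  have haff : IsAffineOpen (U.ι ⁻¹ᵁ X.basicOpen a) :=
    (hO.basicOpen a).preimage_of_isOpenImmersion U.ι (by rwa [Scheme.Opens.opensRange_ι])
  have hbij : Function.Bijective (U.ι.app (X.basicOpen a)).hom := by
    haveI := U.ι.isIso_app (X.basicOpen a) (by rwa [Scheme.Opens.opensRange_ι])
    exact ConcreteCategory.bijective_of_isIso (U.ι.app (X.basicOpen a))
  have hfin : Module.Finite T D := by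
    change (f.app (X.basicOpen a)).hom.Finite
    rw [Scheme.Hom.comp_app, CommRingCat.hom_comp]
    exact RingHom.Finite.comp (IsFinite.finite_app w _ haff) (RingHom.Finite.of_surjective _ hbij.2)
  have het : Algebra.Etale T D := by
    rw [← RingHom.etale_algebraMap]
    change (f.app (X.basicOpen a)).hom.Etale
    haveI : Etale (w ≫ U.ι) := inferInstance
    have haff' : IsAffineOpen (f ⁻¹ᵁ X.basicOpen a) := haff.preimage w
    rw [Scheme.Hom.app_eq_appLE]
    exact HasRingHomProperty.appLE @Etale f inferInstance ⟨_, hO.basicOpen a⟩ ⟨_, haff'⟩ le_rfl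
  let e : T ⊗[Γ(X, O)] C ≃ₐ[T] D := Algebra.IsPushout.equiv Γ(X, O) T C D
  haveI : Module.Finite T (T ⊗[Γ(X, O)] C) := Module.Finite.equiv e.symm.toLinearEquiv
  haveI : Algebra.Etale T (T ⊗[Γ(X, O)] C) := Algebra.Etale.of_equiv e.symm
  let g : T →ₐ[Γ(X, O)] Localization.Away a :=
    (IsLocalization.algEquiv (Submonoid.powers a) T (Localization.Away a)).toAlgHom
  obtain ⟨hf', he'⟩ : Module.Finite (Localization.Away a) (Localization.Away a ⊗[Γ(X, O)] C) ∧
      Algebra.Etale (Localization.Away a) (Localization.Away a ⊗[Γ(X, O)] C) := by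
    letI := g.toRingHom.toAlgebra
    obtain ⟨_, e', -⟩ := baseChange_aux C g
    exact ⟨Module.Finite.equiv e'.toLinearEquiv, Algebra.Etale.of_equiv e'⟩
  have hp : a ∉ (hO.primeIdealOf ⟨p, hpO⟩).asIdeal :=
    (Groth.QCohMod.mem_basicOpen_iff_notMem_primeIdealOf hO a p hpO).1 hpa
  obtain ⟨b, hb, hab, hgood⟩ := exists_good_refinement a hf' he' (hO.primeIdealOf ⟨p, hpO⟩) hp
  haveI : IsLocalization.Away b Γ(X, X.basicOpen b) := hO.isLocalization_basicOpen b
  refine ⟨b, ?_, (Groth.QCohMod.mem_basicOpen_iff_notMem_primeIdealOf hO b p hpO).2 hb,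
    hgood.map C (IsLocalization.algEquiv (Submonoid.powers b) (Localization.Away b) Γ(X, X.basicOpen b)).toAlgHom⟩
  obtain ⟨c, rfl⟩ := hab
  rw [Scheme.basicOpen_mul]
  exact inf_le_left.trans haU

/-- Sections of a finite étale cover of `U` over the preimage of an affine open are a finite module. -/
theorem finite_app (hd : ∀ x : X, x ∉ U → (2 : ℕ∞) ≤ LocCoh.depth (X.presheaf.stalk x) (X.presheaf.stalk x))
    {O : X.Opens} (hO : IsAffineOpen O) : ((w ≫ U.ι).app O).hom.Finite := by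
  classical
  let f := w ≫ U.ι
  letI : Algebra Γ(X, O) Γ(W, f ⁻¹ᵁ O) := (f.app O).hom.toAlgebra
  change Module.Finite Γ(X, O) Γ(W, f ⁻¹ᵁ O)
  haveI : IsNoetherianRing Γ(X, O) := IsLocallyNoetherian.component_noetherian ⟨O, hO⟩
  let C := Γ(W, f ⁻¹ᵁ O)
  have hH : Groth.ParaFormal.HartX U := Groth.ParaFormal.hart_of_depth hd
  haveI : QuasiCompact U.ι := inferInstance
  have hcpt : IsCompact ((U : Set X) ∩ O) := by
    have h := ((U.ι.isCompact_preimage hO.isCompact).image U.ι.continuous)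
    convert h using 1
    rw [Scheme.Hom.coe_preimage, Set.image_preimage_eq_range_inter, Scheme.Opens.range_ι]
  let G := {b : Γ(X, O) // X.basicOpen b ≤ U ∧ Good Γ(X, O) C Γ(X, X.basicOpen b)}
  obtain ⟨s, hs⟩ := hcpt.elim_finite_subcover (fun b : G => (X.basicOpen b.1 : Set X))
    (fun b => (X.basicOpen b.1).isOpen) fun p hp => by
      obtain ⟨b, h1, h2, h3⟩ := exists_good w hO hp.1 hp.2
      exact Set.mem_iUnion.2 ⟨⟨b, h1, h3⟩, h2⟩
  let a : {b : G // b ∈ s} → Γ(X, O) := fun b => b.1.1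
  let D : {b : G // b ∈ s} → X.Opens := fun i => X.basicOpen (a i)
  have hle : ∀ i, D i ≤ O ⊓ U := fun i => le_inf (X.basicOpen_le _) i.1.2.1
  have hcov : O ⊓ U ≤ iSup D := fun p hp => by
    obtain ⟨b, hb, hpb⟩ := Set.mem_iUnion₂.1 (hs ⟨hp.2, hp.1⟩)
    exact Opens.mem_iSup.2 ⟨⟨b, hb⟩, hpb⟩
  have hgood : ∀ i, Good Γ(X, O) C Γ(X, D i) := fun i => i.1.2.2
  -- common generators
  obtain ⟨r, g, hg⟩ : ∃ (r : ℕ) (g : Fin r → C), ∀ i, Gens Γ(X, O) C g Γ(X, D i) := by
    have : ∀ i, ∃ G : Finset C, Submodule.span Γ(X, D i)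
        ((fun c => (1 : Γ(X, D i)) ⊗ₜ[Γ(X, O)] c) '' (G : Set C)) = ⊤ := by
      intro i
      haveI := (hgood i).2.1
      obtain ⟨G, hG⟩ := Module.Finite.fg_top (R := Γ(X, D i)) (M := Γ(X, D i) ⊗[Γ(X, O)] C)
      choose S hS using fun x : Γ(X, D i) ⊗[Γ(X, O)] C => TensorProduct.exists_finset x
      refine ⟨G.biUnion fun x => (S x).image Prod.snd, eq_top_iff.2 ?_⟩
      rw [← hG, Submodule.span_le]
      intro x hx
      rw [SetLike.mem_coe, hS x]
      refine Submodule.sum_mem _ fun tc htc => ?_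
      rw [← mul_one tc.1, ← smul_eq_mul, ← TensorProduct.smul_tmul']
      exact Submodule.smul_mem _ _ (Submodule.subset_span
        ⟨tc.2, Finset.mem_biUnion.2 ⟨x, hx, Finset.mem_image_of_mem _ htc⟩, rfl⟩)
    choose Gs hGs using this
    let GG := Finset.univ.biUnion Gs
    refine ⟨GG.card, fun j => (GG.equivFin.symm j : C), fun i => eq_top_iff.2 ?_⟩
    rw [← hGs i]
    refine Submodule.span_mono ?_
    rintro _ ⟨c, hc, rfl⟩
    exact ⟨GG.equivFin ⟨c, Finset.mem_biUnion.2 ⟨i, Finset.mem_univ _, hc⟩⟩, by simp⟩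
  let Ψ : C →ₗ[Γ(X, O)] (Fin r → ∀ i, Γ(X, D i)) := LinearMap.pi fun l => LinearMap.pi fun i =>
    ((Algebra.trace Γ(X, D i) (Γ(X, D i) ⊗[Γ(X, O)] C)).restrictScalars Γ(X, O)).comp
      ((TensorProduct.mk Γ(X, O) Γ(X, D i) C 1).comp (LinearMap.mulRight Γ(X, O) (g l)))
  let A : (Fin r → Γ(X, O)) →ₗ[Γ(X, O)] (Fin r → ∀ i, Γ(X, D i)) := LinearMap.pi fun l =>
    (LinearMap.pi fun i => Algebra.linearMap Γ(X, O) Γ(X, D i)).comp (LinearMap.proj l)
  have hΨ : ∀ x l i, Ψ x l i =
      Algebra.trace Γ(X, D i) (Γ(X, D i) ⊗[Γ(X, O)] C) (1 ⊗ₜ (x * g l)) := fun _ _ _ => rfl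
  have hrange : ∀ x, Ψ x ∈ LinearMap.range A := by
    intro x
    have key : ∀ l, ∃ b : Γ(X, O), ∀ i, algebraMap Γ(X, O) Γ(X, D i) b = Ψ x l i := by
      intro l
      obtain ⟨t, ht, -⟩ := resX_glue D hle hcov (fun i => Ψ x l i) fun i j => by
        letI : Algebra Γ(X, O) Γ(X, D i ⊓ D j) :=
          (resX X ((inf_le_left : D i ⊓ D j ≤ D i).trans ((hle i).trans inf_le_left))).toAlgebra
        let r₁ : Γ(X, D i) →ₐ[Γ(X, O)] Γ(X, D i ⊓ D j) :=
          { resX X (inf_le_left : D i ⊓ D j ≤ D i) with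
            commutes' := fun b => resX_resX ((hle i).trans inf_le_left) inf_le_left b }
        let r₂ : Γ(X, D j) →ₐ[Γ(X, O)] Γ(X, D i ⊓ D j) :=
          { resX X (inf_le_right : D i ⊓ D j ≤ D j) with
            commutes' := fun b => resX_resX ((hle j).trans inf_le_left) inf_le_right b }
        change r₁ (Ψ x l i) = r₂ (Ψ x l j)
        rw [hΨ, hΨ, ← trace_mapT C r₁ (hgood i), ← trace_mapT C r₂ (hgood j), mapT_tmul, mapT_tmul,
          map_one, map_one]
      obtain ⟨b, hb⟩ := (hH O).2 t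
      refine ⟨b, fun i => ?_⟩
      rw [← ht i, ← hb, resX_resX]
      rfl
    choose b hb using key
    exact ⟨b, funext fun l => funext fun i => hb l i⟩
  have hinj : Function.Injective Ψ := by
    refine (injective_iff_map_eq_zero Ψ).2 fun x hx => ?_
    have hxi : ∀ i, (1 : Γ(X, D i)) ⊗ₜ[Γ(X, O)] x = 0 := fun i => by
      refine eq_of_trace C g (hgood i) (hg i) fun l => ?_
      rw [Algebra.TensorProduct.tmul_mul_tmul, one_mul, zero_mul, map_zero, ← hΨ, hx]
      rfl
    refine resX_ext (fun i => f ⁻¹ᵁ D i) (fun i => f.preimage_mono ((hle i).trans inf_le_left)) ?_ fun i => ?_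
    · intro z hz
      obtain ⟨i, hi⟩ := Opens.mem_iSup.1 (hcov ⟨hz, (w z).2⟩)
      exact Opens.mem_iSup.2 ⟨i, hi⟩
    · letI : Algebra Γ(X, D i) Γ(W, f ⁻¹ᵁ D i) := (f.app (D i)).hom.toAlgebra
      letI : Algebra Γ(X, O) Γ(W, f ⁻¹ᵁ D i) :=
        ((algebraMap Γ(X, D i) Γ(W, f ⁻¹ᵁ D i)).comp (algebraMap Γ(X, O) Γ(X, D i))).toAlgebra
      haveI : IsScalarTower Γ(X, O) Γ(X, D i) Γ(W, f ⁻¹ᵁ D i) := .of_algebraMap_eq' rfl
      let ρ : C →ₐ[Γ(X, O)] Γ(W, f ⁻¹ᵁ D i) :=
        { resX W (f.preimage_mono ((hle i).trans inf_le_left)) with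
          commutes' := fun b => (congr($(f.naturality (homOfLE ((hle i).trans inf_le_left)).op).hom b)).symm }
      have h0 := congrArg (Algebra.TensorProduct.lift
        (IsScalarTower.toAlgHom Γ(X, O) Γ(X, D i) Γ(W, f ⁻¹ᵁ D i)) ρ fun _ _ => Commute.all _ _) (hxi i)
      rw [map_zero, Algebra.TensorProduct.lift_tmul, map_one, one_mul] at h0
      rw [map_zero]
      exact h0
  exact Module.Finite.of_injective (Ψ.codRestrict (LinearMap.range A) hrange)
    (fun x y h => hinj (congrArg Subtype.val h))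

end Groth.Pi1S2
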