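import Groth.Agent.Pi1Purity.DescendPure
import Groth.Agent.Pi1Depth.S2Finite
import Groth.Agent.Pi1Depth.Basic

/-!
# The finite extension of a finite étale cover across depth two
-/

universe u

set_option autoImplicit false
set_option linter.style.haveILetI false
set_option backward.isDefEq.respectTransparency false
set_option backward.defeqAttrib.useBackward true

open CategoryTheory CategoryTheory.Limits AlgebraicGeometry TopologicalSpace

namespace Groth.Pi1S2

open Groth.Pi1Purity (compactSpace_preimage isIso_appTop_restrict hull isPullback_hull)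
open Groth.PicAux

set_option linter.unusedSectionVars false

variable {X : Scheme.{u}} [IsLocallyNoetherian X] {U : X.Opens} (hbij : ∀ O : X.Opens, Function.Bijective (U.ι.app O))
  {W : Scheme.{u}} (w : W ⟶ (U : Scheme.{u})) [IsFinite w]
  (hfin : ∀ O : X.affineOpens, ((w ≫ U.ι).app O.1).hom.Finite)

include hfin in
theorem bijective_val (O : X.affineOpens) :
    letI := ((w ≫ U.ι).app O.1).hom.toAlgebra
    Function.Bijective (integralClosure Γ(X, O.1) Γ(W, (w ≫ U.ι) ⁻¹ᵁ O.1)).val := by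
  letI := ((w ≫ U.ι).app O.1).hom.toAlgebra
  haveI : Module.Finite Γ(X, O.1) Γ(W, (w ≫ U.ι) ⁻¹ᵁ O.1) := hfin O
  exact ⟨Subtype.val_injective, fun z => ⟨⟨z, Algebra.IsIntegral.isIntegral z⟩, rfl⟩⟩

include hfin in
theorem isIso_specVal (O : X.affineOpens) :
    letI := ((w ≫ U.ι).app O.1).hom.toAlgebra
    IsIso (Spec.map (CommRingCat.ofHom
      (integralClosure Γ(X, O.1) Γ(W, (w ≫ U.ι) ⁻¹ᵁ O.1)).val.toRingHom)) := by
  letI := ((w ≫ U.ι).app O.1).hom.toAlgebra
  haveI : IsIso (CommRingCat.ofHom (integralClosure Γ(X, O.1) Γ(W, (w ≫ U.ι) ⁻¹ᵁ O.1)).val.toRingHom) :=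
    (ConcreteCategory.isIso_iff_bijective _).2 (bijective_val w hfin O)
  infer_instance

include hfin in
theorem isFinite_fromNormalization : IsFinite (w ≫ U.ι).fromNormalization := by
  let f := w ≫ U.ι
  rw [IsZariskiLocalAtTarget.iff_of_iSup_eq_top (P := @IsFinite)
    (fun O : X.affineOpens => O.1) (iSup_affineOpens_eq_top _)]
  intro O
  letI := (f.app O.1).hom.toAlgebra
  haveI : IsIso (Spec.map (CommRingCat.ofHom (integralClosure Γ(X, O.1) Γ(W, f ⁻¹ᵁ O.1)).val.toRingHom)) :=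
    isIso_specVal w hfin O
  let e := IsOpenImmersion.isoOfRangeEq (f.fromNormalization ⁻¹ᵁ O.1).ι (f.normalizationOpenCover.f O)
    (by simpa using congr($(f.fromNormalization_preimage O).1))
  have h1 : IsFinite (Spec.map (f.normalizationDiagramMap.app (.op O.1))) := by
    rw [← MorphismProperty.cancel_left_of_respectsIso (P := @IsFinite)
      (Spec.map (CommRingCat.ofHom (integralClosure Γ(X, O.1) Γ(W, f ⁻¹ᵁ O.1)).val.toRingHom)), ← Spec.map_comp]
    exact (IsFinite.SpecMap_iff _).2 (hfin O)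
  rw [← MorphismProperty.cancel_left_of_respectsIso @IsFinite e.inv,
    ← MorphismProperty.cancel_right_of_respectsIso @IsFinite _ O.2.isoSpec.hom]
  have h2 : (e.inv ≫ f.fromNormalization ∣_ O.1) ≫ O.2.isoSpec.hom =
      Spec.map (f.normalizationDiagramMap.app (.op O.1)) := by
    rw [← cancel_mono O.2.fromSpec]
    simp [IsAffineOpen.isoSpec_hom, e, Scheme.Hom.ι_fromNormalization]
  exact h2.symm ▸ h1

include hbij hfin in
theorem isPullback_toNormalization :
    IsPullback w (w ≫ U.ι).toNormalization U.ι (w ≫ U.ι).fromNormalization := by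
  let f := w ≫ U.ι
  have hopen : IsOpenImmersion f.toNormalization := by
    rw [IsZariskiLocalAtTarget.iff_of_iSup_eq_top (P := @IsOpenImmersion)
      (fun O : X.affineOpens => f.fromNormalization ⁻¹ᵁ O.1) (by
        rw [← Scheme.Hom.preimage_iSup, iSup_affineOpens_eq_top, Scheme.Hom.preimage_top])]
    intro O
    haveI := compactSpace_preimage (U := U) O
    haveI : IsAffine (O.1 : Scheme.{u}) := O.2
    haveI : (U.ι ⁻¹ᵁ O.1 : Scheme.{u}).IsQuasiAffine := Scheme.IsQuasiAffine.of_isImmersion (U.ι ∣_ O.1)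
    haveI : (f ⁻¹ᵁ O.1 : Scheme.{u}).IsQuasiAffine := Scheme.IsQuasiAffine.of_isAffineHom (w ∣_ (U.ι ⁻¹ᵁ O.1))
    haveI : IsOpenImmersion ((f ⁻¹ᵁ O.1).ι ≫ f.toNormalization) := by
      letI := (f.app O.1).hom.toAlgebra
      haveI : IsIso (Spec.map (CommRingCat.ofHom (integralClosure Γ(X, O.1) Γ(W, f ⁻¹ᵁ O.1)).val.toRingHom)) :=
        isIso_specVal w hfin O
      rw [f.ι_toNormalization O, Scheme.Opens.toSpecΓ]
      infer_instance
    have he : f.toNormalization ⁻¹ᵁ (f.fromNormalization ⁻¹ᵁ O.1) = f ⁻¹ᵁ O.1 := by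
      rw [← Scheme.Hom.comp_preimage, f.toNormalization_fromNormalization]
    haveI : IsOpenImmersion ((f.toNormalization ∣_ (f.fromNormalization ⁻¹ᵁ O.1)) ≫ (f.fromNormalization ⁻¹ᵁ O.1).ι) := by
      rw [morphismRestrict_ι, ← (W.isoOfEq he).hom_inv_id_assoc (f.toNormalization ⁻¹ᵁ _).ι, Scheme.isoOfEq_inv_ι,
        Category.assoc]
      infer_instance
    exact IsOpenImmersion.of_comp _ (f.fromNormalization ⁻¹ᵁ O.1).ι
  refine IsOpenImmersion.isPullback w _ U.ι _ f.toNormalization_fromNormalization ?_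
  apply TopologicalSpace.Opens.ext
  rw [Scheme.Opens.opensRange_ι]
  refine Set.Subset.antisymm (fun y hy => ?_) ?_
  · obtain ⟨O, hyO⟩ : ∃ O : X.affineOpens, f.fromNormalization y ∈ O.1 := by
      obtain ⟨_, ⟨O, hO, rfl⟩, hyO, -⟩ :=
        X.isBasis_affineOpens.exists_subset_of_mem_open (Set.mem_univ (f.fromNormalization y)) isOpen_univ
      exact ⟨⟨O, hO⟩, hyO⟩
    haveI := compactSpace_preimage (U := U) O
    haveI := isIso_appTop_restrict hbij O
    haveI : IsAffine (O.1 : Scheme.{u}) := O.2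
    letI := (f.app O.1).hom.toAlgebra
    haveI : IsIso (Spec.map (CommRingCat.ofHom (integralClosure Γ(X, O.1) Γ(W, f ⁻¹ᵁ O.1)).val.toRingHom)) :=
      isIso_specVal w hfin O
    obtain ⟨c, rfl⟩ := (f.fromNormalization_preimage O).le hyO
    let σ : (f ⁻¹ᵁ O.1 : Scheme.{u}) ⟶ f.normalization := (f ⁻¹ᵁ O.1).ι ≫ f.toNormalization
    let v := Spec.map (f ⁻¹ᵁ O.1).topIso.inv ≫
      Spec.map (CommRingCat.ofHom (integralClosure Γ(X, O.1) Γ(W, f ⁻¹ᵁ O.1)).val.toRingHom)
    have hσ : σ = (f ⁻¹ᵁ O.1 : Scheme.{u}).toSpecΓ ≫ v ≫ f.normalizationOpenCover.f O := by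
      simp only [σ, v, f.ι_toNormalization O, Scheme.Opens.toSpecΓ, Category.assoc]
    have hv : v ≫ f.normalizationOpenCover.f O ≫ f.fromNormalization =
        hull (U.ι ∣_ O.1) (w ∣_ (U.ι ⁻¹ᵁ O.1)) ≫ O.1.ι := by
      simp only [v, f.ι_fromNormalization, Category.assoc]
      have hval : Spec.map (CommRingCat.ofHom (integralClosure Γ(X, O.1) Γ(W, f ⁻¹ᵁ O.1)).val.toRingHom) ≫
          Spec.map (f.normalizationDiagramMap.app (.op O.1)) = Spec.map (f.app O.1) := (Spec.map_comp _ _).symm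
      rw [reassoc_of% hval, hull, ← (morphismRestrict_comp w U.ι O.1 : (w ≫ U.ι) ∣_ O.1 = _), Category.assoc]
      change _ = Spec.map (f ∣_ O.1).appTop ≫ _
      have h1 : (f ∣_ O.1).appTop = O.1.topIso.hom ≫ f.app O.1 ≫ (f ⁻¹ᵁ O.1).topIso.inv := by
        rw [morphismRestrict_appTop, Scheme.Hom.app_eq_appLE, Scheme.Hom.app_eq_appLE, Scheme.Hom.appLE_map,
          Scheme.Opens.topIso_hom, Scheme.Opens.topIso_inv, Scheme.Hom.appLE_map, Scheme.Hom.map_appLE]
        rfl
      rw [h1, Spec.map_comp, Spec.map_comp, Category.assoc, Category.assoc, IsAffineOpen.fromSpec]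
      simp [IsAffineOpen.isoSpec, -Scheme.Hom.comp_app]
    obtain ⟨d, hd⟩ : ∃ d, v d = c := ⟨inv v c, by rw [← Scheme.Hom.comp_apply, IsIso.inv_hom_id]; rfl⟩
    have hy' : (hull (U.ι ∣_ O.1) (w ∣_ (U.ι ⁻¹ᵁ O.1))) d ∈ Set.range (U.ι ∣_ O.1) := by
      have hmem : O.1.ι ((hull (U.ι ∣_ O.1) (w ∣_ (U.ι ⁻¹ᵁ O.1))) d) ∈ (U : Set X) := by
        rw [← Scheme.Hom.comp_apply, ← hv, Scheme.Hom.comp_apply, Scheme.Hom.comp_apply]
        erw [hd]
        exact hy
      refine ⟨⟨⟨_, hmem⟩, ((hull (U.ι ∣_ O.1) (w ∣_ (U.ι ⁻¹ᵁ O.1))) d).2⟩, ?_⟩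
      apply O.1.ι.isOpenEmbedding.injective
      rw [← Scheme.Hom.comp_apply, morphismRestrict_ι]
      rfl
    obtain ⟨y', hy'⟩ := hy'
    obtain ⟨p, -, hp⟩ := Scheme.exists_preimage_of_isPullback
      (isPullback_hull (U.ι ∣_ O.1) (w ∣_ (U.ι ⁻¹ᵁ O.1))) y' d hy'
    refine ⟨(f ⁻¹ᵁ O.1).ι p, ?_⟩
    change σ p = _
    rw [hσ, Scheme.Hom.comp_apply, Scheme.Hom.comp_apply]
    erw [hp, hd]
    rfl
  · rintro _ ⟨x, rfl⟩
    change f.fromNormalization (f.toNormalization x) ∈ U
    rw [← Scheme.Hom.comp_apply, f.toNormalization_fromNormalization]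
    exact (w x).2


omit [IsLocallyNoetherian X] in
/-- It suffices to extend functions on a basis. -/
theorem hart_of_basis {Y : Scheme.{u}} {C : Y.Opens} (B : Set Y.Opens)
    (hB : ∀ (V : Y.Opens) (y : Y), y ∈ V → ∃ O ∈ B, y ∈ O ∧ O ≤ V)
    (h : ∀ O ∈ B, Function.Bijective (resX Y (inf_le_left : O ⊓ C ≤ O))) : Groth.ParaFormal.HartX C := by
  have hc : ∀ V : Y.Opens, V ≤ ⨆ O : {O : Y.Opens // O ∈ B ∧ O ≤ V}, O.1 := fun V y hy => by
    obtain ⟨O, hO, hyO, hOV⟩ := hB V y hy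
    exact Opens.mem_iSup.2 ⟨⟨O, hO, hOV⟩, hyO⟩
  have hinj : ∀ V : Y.Opens, Function.Injective (resX Y (inf_le_left : V ⊓ C ≤ V)) := fun V a b hab => by
    refine resX_ext (fun O : {O : Y.Opens // O ∈ B ∧ O ≤ V} => O.1) (fun O => O.2.2) (hc V) fun O => (h _ O.2.1).1 ?_
    have := congrArg (resX Y (inf_le_inf_right C O.2.2)) hab
    simpa only [resX_resX] using this
  intro V
  refine ⟨hinj V, fun t => ?_⟩
  choose y hy using fun O : {O : Y.Opens // O ∈ B ∧ O ≤ V} =>
    (h _ O.2.1).2 (resX Y (inf_le_inf_right C O.2.2) t)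
  obtain ⟨z, hz, -⟩ := resX_glue (fun O : {O : Y.Opens // O ∈ B ∧ O ≤ V} => O.1) (fun O => O.2.2) (hc V) y
    fun i j => by
      refine hinj _ ?_
      have e1 := congrArg (resX Y (inf_le_inf_right C (inf_le_left : i.1 ⊓ j.1 ≤ i.1))) (hy i)
      have e2 := congrArg (resX Y (inf_le_inf_right C (inf_le_right : i.1 ⊓ j.1 ≤ j.1))) (hy j)
      simp only [resX_resX] at e1 e2 ⊢
      exact e1.trans e2.symm
  refine ⟨z, ?_⟩
  refine resX_ext (fun O : {O : Y.Opens // O ∈ B ∧ O ≤ V} => O.1 ⊓ C) (fun O => inf_le_inf_right C O.2.2) ?_ fun O => ?_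
  · rintro p ⟨hpV, hpC⟩
    obtain ⟨O, hO⟩ := Opens.mem_iSup.1 (hc V hpV)
    exact Opens.mem_iSup.2 ⟨O, hO, hpC⟩
  · rw [resX_resX, ← hy O, ← hz O, resX_resX]

omit [IsLocallyNoetherian X] in
/-- Localisation keeps extension of functions. -/
theorem bijective_res_basicOpen {Y : Scheme.{u}} [IsLocallyNoetherian Y] {C V : Y.Opens} (hV : IsAffineOpen V)
    (hC : IsCompact ((V ⊓ C : Y.Opens) : Set Y)) (g : Γ(Y, V))
    (h : Function.Bijective (resX Y (inf_le_left : V ⊓ C ≤ V))) :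
    Function.Bijective (resX Y (inf_le_left : Y.basicOpen g ⊓ C ≤ Y.basicOpen g)) := by
  let g' := resX Y (inf_le_left : V ⊓ C ≤ V) g
  have he : Y.basicOpen g' = Y.basicOpen g ⊓ C := by
    change Y.basicOpen ((Y.presheaf.map (homOfLE (inf_le_left : V ⊓ C ≤ V)).op) g) = _
    rw [Scheme.basicOpen_res]
    exact le_antisymm (le_inf inf_le_right (inf_le_left.trans inf_le_right))
      (le_inf (le_inf (inf_le_left.trans (Y.basicOpen_le g)) inf_le_right) inf_le_left)
  letI : Algebra Γ(Y, V ⊓ C) Γ(Y, Y.basicOpen g') := (resX Y (Y.basicOpen_le g')).toAlgebra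
  haveI : IsLocalization.Away g Γ(Y, Y.basicOpen g) := hV.isLocalization_basicOpen g
  haveI : IsLocalization.Away g' Γ(Y, Y.basicOpen g') :=
    isLocalization_basicOpen_of_qcqs hC (IsQuasiSeparated.of_quasiSeparatedSpace _) g'
  rw [resX_bijective_congr (inf_le_left : Y.basicOpen g ⊓ C ≤ Y.basicOpen g)
    ((he.le.trans inf_le_left) : Y.basicOpen g' ≤ Y.basicOpen g) he.symm]
  have hT : (Submonoid.powers g).map (RingEquiv.ofBijective (resX Y (inf_le_left : V ⊓ C ≤ V)) h).toMonoidHom =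
      Submonoid.powers g' := by
    rw [Submonoid.map_powers]
    rfl
  let e := IsLocalization.ringEquivOfRingEquiv (M := Submonoid.powers g) (T := Submonoid.powers g')
    Γ(Y, Y.basicOpen g) Γ(Y, Y.basicOpen g') (RingEquiv.ofBijective (resX Y (inf_le_left : V ⊓ C ≤ V)) h)
    hT
  have : resX Y ((he.le.trans inf_le_left) : Y.basicOpen g' ≤ Y.basicOpen g) = e.toRingHom := by
    refine IsLocalization.ringHom_ext (Submonoid.powers g) ?_
    ext x
    refine Eq.trans ?_ (IsLocalization.ringEquivOfRingEquiv_eq hT x).symm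
    exact (resX_resX (Y.basicOpen_le g) _ x).trans (resX_resX inf_le_left (Y.basicOpen_le g') x).symm
  rw [this]
  exact e.bijective

include hbij hfin in
/-- Functions extend across the complement of the cover in its hull. -/
theorem hart_normalization :
    Groth.ParaFormal.HartX ((w ≫ U.ι).fromNormalization ⁻¹ᵁ U) := by
  let f := w ≫ U.ι
  let q := f.fromNormalization
  let j := f.toNormalization
  haveI : IsFinite q := isFinite_fromNormalization w hfin
  haveI : IsLocallyNoetherian f.normalization := LocallyOfFiniteType.isLocallyNoetherian q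
  have H := isPullback_toNormalization hbij w hfin
  haveI : IsOpenImmersion j := MorphismProperty.of_isPullback H (inferInstance : IsOpenImmersion U.ι)
  have hr : j.opensRange = q ⁻¹ᵁ U := by
    ext z
    constructor
    · rintro ⟨x, rfl⟩
      change q (j x) ∈ U
      rw [← Scheme.Hom.comp_apply, show j ≫ q = w ≫ U.ι from f.toNormalization_fromNormalization]
      exact (w x).2
    · intro hz
      obtain ⟨x, -, hx⟩ := Scheme.exists_preimage_of_isPullback H ⟨q z, hz⟩ z rfl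
      exact ⟨x, hx⟩
  have hO : ∀ O : X.affineOpens, Function.Bijective (resX _ (inf_le_left : q ⁻¹ᵁ O.1 ⊓ q ⁻¹ᵁ U ≤ q ⁻¹ᵁ O.1)) := by
    intro O
    letI := (f.app O.1).hom.toAlgebra
    haveI : IsIso (CommRingCat.ofHom (integralClosure Γ(X, O.1) Γ(W, f ⁻¹ᵁ O.1)).val.toRingHom) :=
      (ConcreteCategory.isIso_iff_bijective _).2 (bijective_val w hfin O)
    haveI h1 : IsIso (j.app (q ⁻¹ᵁ O.1)) := by
      change IsIso (f.toNormalization.app (f.fromNormalization ⁻¹ᵁ O.1))
      rw [f.toNormalization_app_preimage O]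
      exact IsIso.comp_isIso' inferInstance (IsIso.comp_isIso'
        ((ConcreteCategory.isIso_iff_bijective _).2 (bijective_val w hfin O)) inferInstance)
    have hb : Function.Bijective (resX _ (j.image_preimage_le (q ⁻¹ᵁ O.1))) := by
      have e : f.normalization.presheaf.map (homOfLE (j.image_preimage_le (q ⁻¹ᵁ O.1))).op ≫
          (j.appIso _).hom = j.app (q ⁻¹ᵁ O.1) := by
        rw [Scheme.Hom.appIso_hom', Scheme.Hom.map_appLE, Scheme.Hom.app_eq_appLE]
      haveI : IsIso (f.normalization.presheaf.map (homOfLE (j.image_preimage_le (q ⁻¹ᵁ O.1))).op) := by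
        rw [(Iso.eq_comp_inv _).2 e]
        infer_instance
      exact ConcreteCategory.bijective_of_isIso
        (f.normalization.presheaf.map (homOfLE (j.image_preimage_le (q ⁻¹ᵁ O.1))).op)
    exact (resX_bijective_congr (j.image_preimage_le _) inf_le_left
      (by rw [Scheme.Hom.image_preimage_eq_opensRange_inf, hr, inf_comm])).1 hb
  have hcpt : ∀ O : X.affineOpens, IsCompact ((q ⁻¹ᵁ O.1 ⊓ q ⁻¹ᵁ U : f.normalization.Opens) : Set f.normalization) := by
    intro O
    haveI : QuasiCompact (q ⁻¹ᵁ U).ι := inferInstance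
    have h := ((q ⁻¹ᵁ U).ι.isCompact_preimage ((O.2.preimage q).isCompact)).image (q ⁻¹ᵁ U).ι.continuous
    convert h using 1
    rw [Scheme.Hom.coe_preimage, Set.image_preimage_eq_range_inter, Scheme.Opens.range_ι, Set.inter_comm]
    rfl
  refine hart_of_basis {V | ∃ (O : X.affineOpens) (g : Γ(f.normalization, q ⁻¹ᵁ O.1)), f.normalization.basicOpen g = V}
    (fun V y hy => ?_) ?_
  · obtain ⟨_, ⟨O, hOa, rfl⟩, hyO, -⟩ :=
      X.isBasis_affineOpens.exists_subset_of_mem_open (Set.mem_univ (q y)) isOpen_univ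
    obtain ⟨g, hg, hyg⟩ := (IsAffineOpen.preimage hOa q).exists_basicOpen_le (V := V) ⟨y, hy⟩ hyO
    exact ⟨_, ⟨⟨O, hOa⟩, g, rfl⟩, hyg, hg⟩
  · rintro _ ⟨O, g, rfl⟩
    exact bijective_res_basicOpen (O.2.preimage q) (hcpt O) g (hO O)

end Groth.Pi1S2
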